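import Mathlib
import Groth.Prelude
import Groth.Agent.Lib.Helper8.CIPres.B
import Groth.Agent.Lib.Helper8.RI.A
import Groth.Agent.Lib.Helper1.RegSpread
import Groth.Agent.Lib.Helper1.ComplQuot
import Groth.Agent.S0548

/-! # Openness of the complete intersection locus of a quotient of a regular ring -/

set_option autoImplicit false
set_option linter.style.haveILetI false

universe u

open IsLocalRing RingTheory.Sequence AlgebraicGeometry

namespace Groth.Agent.H8.CILoc

/-- completions of isomorphic Noetherian local rings are isomorphic. -/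
noncomputable def complEquiv {A₁ A₂ : Type u} [CommRing A₁] [CommRing A₂] [IsNoetherianRing A₁]
    [IsLocalRing A₁] [IsLocalRing A₂] (e : A₁ ≃+* A₂) :
    AdicCompletion (maximalIdeal A₁) A₁ ≃+* AdicCompletion (maximalIdeal A₂) A₂ :=
  have hker : (RingHom.ker (e : A₁ →+* A₂)).map
      (algebraMap A₁ (AdicCompletion (maximalIdeal A₁) A₁)) = ⊥ := by
    rw [(RingHom.injective_iff_ker_eq_bot (e : A₁ →+* A₂)).mp e.injective, Ideal.map_bot]
  ((RingEquiv.quotientBot _).symm.trans (Ideal.quotEquivOfEq hker.symm)).trans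
    (Groth.Agent.H1.ComplQuot.localEquiv (e : A₁ →+* A₂) e.surjective)

/-- being a complete intersection is invariant under ring isomorphisms. -/
theorem ci_of_ringEquiv {A₁ A₂ : Type u} [CommRing A₁] [CommRing A₂] [IsNoetherianRing A₁]
    [IsLocalRing A₁] [IsLocalRing A₂] (e : A₁ ≃+* A₂) (h : Pi1.IsCompleteIntersection A₁) :
    Pi1.IsCompleteIntersection A₂ := by
  obtain ⟨R, _, hR, rs, hm, hreg, ⟨ε⟩⟩ := h
  exact ⟨R, inferInstance, hR, rs, hm, hreg, ⟨(complEquiv e).symm.trans ε⟩⟩

/-- a regular local ring is a complete intersection. -/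
theorem ci_of_isRegularLocalRing (A : Type u) [CommRing A] [IsRegularLocalRing A] :
    Pi1.IsCompleteIntersection A := by
  haveI : IsRegularLocalRing (AdicCompletion (maximalIdeal A) A) :=
    (Groth.Agent.S0548.result A).mp inferInstance
  refine ⟨AdicCompletion (maximalIdeal A) A, inferInstance, inferInstance, [], ?_, ?_, ?_⟩
  · intro r hr
    simp at hr
  · exact IsRegular.nil _ _
  · have h : Ideal.span {r : AdicCompletion (maximalIdeal A) A | r ∈ ([] : List _)} = ⊥ := by
      rw [Ideal.span_eq_bot]
      intro x hx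
      simp at hx
    exact ⟨(RingEquiv.quotientBot _).symm.trans (Ideal.quotEquivOfEq h.symm)⟩

/-- from a principal localization to the localization at a prime of the corresponding basic
open. -/
theorem isRegular_atPrime_of_away {R : Type u} [CommRing R] (g : R) (q : Ideal R) [q.IsPrime]
    (hg : g ∉ q) (I : Ideal R) (as : List R) (has : ∀ a ∈ as, a ∈ q)
    (h : IsWeaklyRegular (Localization.Away g) (as.map (algebraMap R (Localization.Away g))))
    (hgen : Ideal.ofList (as.map (algebraMap R (Localization.Away g))) =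
      I.map (algebraMap R (Localization.Away g))) :
    IsRegular (Localization.AtPrime q) (as.map (algebraMap R (Localization.AtPrime q))) ∧
      Ideal.ofList (as.map (algebraMap R (Localization.AtPrime q))) =
        I.map (algebraMap R (Localization.AtPrime q)) := by
  have hunit : IsUnit (algebraMap R (Localization.AtPrime q) g) :=
    IsLocalization.map_units (Localization.AtPrime q) (⟨g, hg⟩ : q.primeCompl)
  letI : Algebra (Localization.Away g) (Localization.AtPrime q) :=
    (IsLocalization.Away.lift g hunit).toAlgebra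
  haveI : IsScalarTower R (Localization.Away g) (Localization.AtPrime q) :=
    IsScalarTower.of_algebraMap_eq (fun x => (IsLocalization.Away.lift_eq g hunit x).symm)
  have hle : Submonoid.powers g ≤ q.primeCompl := by
    rw [Submonoid.powers_le]
    exact hg
  haveI : IsLocalization (q.primeCompl.map (algebraMap R (Localization.Away g)))
      (Localization.AtPrime q) :=
    IsLocalization.isLocalization_of_submonoid_le (Localization.Away g) (Localization.AtPrime q)
      (Submonoid.powers g) q.primeCompl hle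
  have h2 := IsWeaklyRegular.of_isLocalization (Localization.AtPrime q)
    (q.primeCompl.map (algebraMap R (Localization.Away g))) h
  rw [List.map_map] at h2
  have h3 : (algebraMap (Localization.Away g) (Localization.AtPrime q)) ∘
      (algebraMap R (Localization.Away g)) = algebraMap R (Localization.AtPrime q) := by
    funext x
    exact (IsScalarTower.algebraMap_apply R (Localization.Away g) (Localization.AtPrime q) x).symm
  rw [h3] at h2
  refine ⟨(IsLocalRing.isRegular_iff_isWeaklyRegular_of_subset_maximalIdeal ?_).mpr h2, ?_⟩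
  · intro r hr
    obtain ⟨a, ha, rfl⟩ := List.mem_map.mp hr
    exact (IsLocalization.AtPrime.to_map_mem_maximal_iff (Localization.AtPrime q) q a).mpr
      (has a ha)
  · have h4 := congrArg (Ideal.map (algebraMap (Localization.Away g) (Localization.AtPrime q)))
      hgen
    rw [Ideal.map_ofList, List.map_map, h3, Ideal.map_map,
      ← IsScalarTower.algebraMap_eq] at h4
    exact h4

/-- the localization of a quotient at a prime is the quotient of the localization. -/
theorem nonempty_equiv_quot {B : Type u} [CommRing B] (I : Ideal B) (𝔮 : Ideal (B ⧸ I))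
    [𝔮.IsPrime] (L : Type u) [CommRing L] [Algebra (B ⧸ I) L] [IsLocalization.AtPrime L 𝔮] :
    Nonempty (L ≃+* (Localization.AtPrime (𝔮.comap (Ideal.Quotient.mk I)) ⧸
      I.map (algebraMap B (Localization.AtPrime (𝔮.comap (Ideal.Quotient.mk I)))))) := by
  have hsub : Algebra.algebraMapSubmonoid (B ⧸ I) (𝔮.comap (Ideal.Quotient.mk I)).primeCompl =
      𝔮.primeCompl := by
    ext x
    constructor
    · rintro ⟨b, hb, rfl⟩
      exact hb
    · intro hx
      obtain ⟨b, rfl⟩ := Ideal.Quotient.mk_surjective x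
      exact ⟨b, hx, rfl⟩
  haveI : IsLocalization 𝔮.primeCompl (Localization.AtPrime (𝔮.comap (Ideal.Quotient.mk I)) ⧸
      I.map (algebraMap B (Localization.AtPrime (𝔮.comap (Ideal.Quotient.mk I))))) := by
    rw [← hsub]
    infer_instance
  exact ⟨(IsLocalization.algEquiv 𝔮.primeCompl L _).toRingEquiv⟩

/-- spreading out: if `I B_𝔭` is generated by a regular sequence, the same holds at all primes of
`V(I)` in a basic open neighbourhood of `𝔭`. -/
theorem exists_nbhd_regular {B : Type u} [CommRing B] [IsNoetherianRing B] (I : Ideal B)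
    (𝔭 : Ideal B) [𝔭.IsPrime] (hI : I ≤ 𝔭)
    (h : ∃ rs : List (Localization.AtPrime 𝔭),
      Ideal.ofList rs = I.map (algebraMap B (Localization.AtPrime 𝔭)) ∧
        IsRegular (Localization.AtPrime 𝔭) rs) :
    ∃ g : B, g ∉ 𝔭 ∧ ∀ (𝔭' : Ideal B) [𝔭'.IsPrime], I ≤ 𝔭' → g ∉ 𝔭' →
      ∃ rs : List (Localization.AtPrime 𝔭'),
        Ideal.ofList rs = I.map (algebraMap B (Localization.AtPrime 𝔭')) ∧
          IsRegular (Localization.AtPrime 𝔭') rs := by
  obtain ⟨rs, hgen, hreg⟩ := h
  obtain ⟨as, has, hreg', hgen'⟩ :=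
    Groth.Agent.H8.RI.exists_lift_regular_atPrime 𝔭 I rs hreg hgen
  obtain ⟨g, hg, h1, h2⟩ := Groth.Agent.H1.Spread.exists_away_isRegular 𝔭
    (Localization.AtPrime 𝔭) I hI as has hreg'.toIsWeaklyRegular hgen'
  refine ⟨g, hg, fun 𝔭' _ hI' hg' => ?_⟩
  obtain ⟨h3, h4⟩ := isRegular_atPrime_of_away g 𝔭' hg' I as (fun a ha => hI' (has a ha))
    h1.toIsWeaklyRegular h2
  exact ⟨_, h4, h3⟩

/-- the local ring of `Spec (B/I)` at a point is a complete intersection iff `I` is generated by
a regular sequence in the local ring of `B`. -/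
theorem stalk_ci_iff (B : Type u) [CommRing B] [IsRegularRing B] (I : Ideal B)
    (x : PrimeSpectrum (B ⧸ I)) :
    Pi1.IsCompleteIntersection ((Spec (CommRingCat.of (B ⧸ I))).presheaf.stalk x) ↔
      ∃ rs : List (Localization.AtPrime (x.asIdeal.comap (Ideal.Quotient.mk I))),
        Ideal.ofList rs = I.map (algebraMap B
          (Localization.AtPrime (x.asIdeal.comap (Ideal.Quotient.mk I)))) ∧
        IsRegular (Localization.AtPrime (x.asIdeal.comap (Ideal.Quotient.mk I))) rs := by
  letI k : Algebra (B ⧸ I) ((Spec (CommRingCat.of (B ⧸ I))).presheaf.stalk x) :=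
    StructureSheaf.stalkAlgebra (B ⧸ I) x
  haveI : IsLocalization.AtPrime ((Spec (CommRingCat.of (B ⧸ I))).presheaf.stalk x) x.asIdeal :=
    StructureSheaf.IsLocalization.to_stalk (B ⧸ I) x
  obtain ⟨e⟩ := nonempty_equiv_quot I x.asIdeal
    ((Spec (CommRingCat.of (B ⧸ I))).presheaf.stalk x)
  have hIp : I ≤ x.asIdeal.comap (Ideal.Quotient.mk I) := by
    intro a ha
    rw [Ideal.mem_comap, Ideal.Quotient.eq_zero_iff_mem.mpr ha]
    exact zero_mem _
  have hle : I.map (algebraMap B (Localization.AtPrime (x.asIdeal.comap (Ideal.Quotient.mk I)))) ≤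
      maximalIdeal (Localization.AtPrime (x.asIdeal.comap (Ideal.Quotient.mk I))) := by
    rw [Ideal.map_le_iff_le_comap]
    intro a ha
    rw [Ideal.mem_comap]
    exact (IsLocalization.AtPrime.to_map_mem_maximal_iff
      (Localization.AtPrime (x.asIdeal.comap (Ideal.Quotient.mk I)))
      (x.asIdeal.comap (Ideal.Quotient.mk I)) a).mpr (hIp ha)
  have hne : I.map (algebraMap B (Localization.AtPrime (x.asIdeal.comap (Ideal.Quotient.mk I)))) ≠
      ⊤ := by
    intro htop
    rw [htop] at hle
    exact (IsLocalRing.maximalIdeal.isMaximal _).ne_top (top_le_iff.mp hle)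
  haveI : Nontrivial (Localization.AtPrime (x.asIdeal.comap (Ideal.Quotient.mk I)) ⧸
      I.map (algebraMap B (Localization.AtPrime (x.asIdeal.comap (Ideal.Quotient.mk I))))) :=
    Ideal.Quotient.nontrivial_iff.mpr hne
  haveI : IsLocalRing (Localization.AtPrime (x.asIdeal.comap (Ideal.Quotient.mk I)) ⧸
      I.map (algebraMap B (Localization.AtPrime (x.asIdeal.comap (Ideal.Quotient.mk I))))) :=
    IsLocalRing.of_surjective' (Ideal.Quotient.mk _) Ideal.Quotient.mk_surjective
  haveI : IsNoetherianRing ((Spec (CommRingCat.of (B ⧸ I))).presheaf.stalk x) :=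
    isNoetherianRing_of_ringEquiv _ e.symm
  rw [← Groth.Agent.H8.CIPres.main2166 _ hne]
  exact ⟨ci_of_ringEquiv e, ci_of_ringEquiv e.symm⟩

/-- the main statement. -/
theorem main (B : Type u) [CommRing B] [IsRegularRing B] (I : Ideal B) :
    IsOpen {x : ↥(Spec (CommRingCat.of (B ⧸ I))) |
        Pi1.IsCompleteIntersection ((Spec (CommRingCat.of (B ⧸ I))).presheaf.stalk x)} ∧
      ∀ x : ↥(Spec (CommRingCat.of (B ⧸ I))),
        IsRegularLocalRing ((Spec (CommRingCat.of (B ⧸ I))).presheaf.stalk x) →
        Pi1.IsCompleteIntersection ((Spec (CommRingCat.of (B ⧸ I))).presheaf.stalk x) := by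
  refine ⟨?_, fun x hx => ?_⟩
  · rw [isOpen_iff_forall_mem_open]
    intro x hx
    have h1 := (stalk_ci_iff B I x).mp hx
    have hIp : ∀ y : PrimeSpectrum (B ⧸ I), I ≤ y.asIdeal.comap (Ideal.Quotient.mk I) := by
      intro y a ha
      rw [Ideal.mem_comap, Ideal.Quotient.eq_zero_iff_mem.mpr ha]
      exact zero_mem _
    obtain ⟨g, hg, hg'⟩ := exists_nbhd_regular I _ (hIp x) h1
    refine ⟨{y | Ideal.Quotient.mk I g ∉ (y : PrimeSpectrum (B ⧸ I)).asIdeal}, ?_,
      (PrimeSpectrum.basicOpen (Ideal.Quotient.mk I g)).isOpen, hg⟩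
    intro y hy
    exact (stalk_ci_iff B I y).mpr (hg' _ (hIp y) hy)
  · haveI := hx
    exact ci_of_isRegularLocalRing _

end Groth.Agent.H8.CILoc
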